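import Cfsg.Agent.Lib.Steinberg.Gen.PureW

/-! The tables of the pure lifting for the type E7 -/

set_option autoImplicit false

namespace Cfsg.Agent.Lib.Steinberg.Gen.PureData.E7

open Cfsg.Lie

/-- The links. -/
def linkL : List (ℕ × ℕ × ℕ × ℕ × ℕ) :=
  [(94, 123, 73, 93, 124), (95, 122, 74, 93, 124), (96, 121, 75, 93, 124), (97, 120, 76, 93, 124), (98, 119, 77, 93, 124), (99, 118, 83, 93, 124), (100, 117, 84, 93, 124), (101, 116, 85, 93, 124), (102, 115, 86, 93, 124), (103, 114, 87, 93, 124), (104, 113, 88, 93, 124), (105, 112, 89, 93, 124), (106, 111, 90, 93, 124), (107, 110, 91, 93, 124), (108, 109, 92, 93, 124), (109, 108, 87, 94, 123), (110, 107, 88, 94, 123), (111, 106, 89, 94, 123), (112, 105, 90, 94, 123), (113, 104, 91, 94, 123), (114, 103, 92, 94, 123), (115, 102, 90, 95, 122), (116, 101, 91, 95, 122), (117, 100, 92, 95, 122), (118, 99, 92, 96, 121), (119, 98, 90, 99, 118), (120, 97, 91, 99, 118), (121, 96, 92, 99, 118), (122, 95, 92, 100, 117), (123, 94, 92,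 103, 114), (124, 93, 92, 109, 108)]

/-- The pairs of the covering. -/
def covL : List (ℕ × ℕ) :=
  [(93, 124), (94, 123), (95, 122), (96, 121), (97, 120)]

/-- The steps of the reaching. -/
def bfsL : List (ℕ × ℕ) :=
  [(124, 0), (123, 2), (122, 3), (118, 1), (121, 4), (117, 4), (120, 5), (114, 3), (116, 5), (119, 6), (108, 2), (113, 5), (115, 6), (92, 0), (107, 5), (111, 4), (112, 6), (91, 5), (105, 4), (106, 6), (110, 6), (89, 4), (90, 6), (102, 3), (104, 6), (109, 5), (86, 3), (88, 6), (98, 1), (101, 6), (103, 5), (77, 1), (82, 2), (85, 6), (87, 5), (97, 6), (100, 5), (72, 2), (76, 6), (81, 6), (84, 5), (96, 5), (99, 4), (68, 3), (71, 6), (75, 5), (80, 5), (83, 4), (95, 4), (65, 4), (67, 6), (70, 5), (74, 4), (79, 4), (94, 3), (63, 5), (64, 6), (66, 5), (69, 4), (73, 3), (78, 3), (93, 2), (62, 6), (61, 5), (59, 4), (56, 3), (52, 2), (47, 1), (32, 0), (60, 5), (58, 4), (55, 3), (46, 1), (51, 2), (31, 0), (57, 4), (54, 3), (45, 1), (50, 2), (42, 2), (30, 0), (53, 3), (44,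 1), (49, 2), (41, 2), (29, 0), (26, 0), (43, 1), (48, 2), (40, 2), (28, 0), (25, 0), (38, 3), (39, 2), (27, 0), (24, 0), (37, 3), (22, 3), (23, 0), (36, 3), (21, 3), (35, 4), (16, 2), (20, 3), (34, 4), (15, 2), (19, 4), (14, 2), (18, 4), (33, 5), (13, 4), (12, 4), (17, 5), (10, 3), (9, 3), (11, 5), (6, 1), (5, 1), (8, 5), (4, 5), (7, 4), (3, 4), (2, 3), (1, 2), (0, 0)]

set_option maxHeartbeats 0

theorem c1 : 126 = chevE7.nroots := by decide +kernel
theorem c2 : shC chevE7 126 = true := by decide +kernel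
theorem c3 : symC chevE7 126 = true := by decide +kernel
theorem c4 : puC 126 chevE7.chainEntry 93 124 125 (1) = true := by decide +kernel
theorem c5 : nlC 126 chevE7.chainEntry 124 125 = true := by decide +kernel
theorem c6 : lnkC 126 chevE7.chainEntry 73 93 94 123 124 125 (-1) = true := by decide +kernel
theorem c7 : connChk 126 chevE7.chainEntry 125 [(93, 124)] linkL = true := by decide +kernel
theorem c8 : allChk chevE7 126 125 ((93, 124) :: linkL.map fun q => (q.1, q.2.1)) = true := by decide +kernel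
theorem c9 : covChk chevE7 126 chevE7.chainEntry 125 0 covL = true := by decide +kernel
theorem c10 : bfsChk chevE7 126 chevE7.rank (2 ^ 125) bfsL = 2 ^ 126 - 1 := by decide +kernel

theorem tbl : PureTbl chevE7 126 125 93 124 73 94 123 0 (1) (-1) linkL covL bfsL :=
  ⟨c1, c2, c3, c4, c5, c6, c7, c8, c9, c10⟩

end Cfsg.Agent.Lib.Steinberg.Gen.PureData.E7
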