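import Cfsg.Agent.Lib.Steinberg.Gen.PureW

/-! The tables of the pure lifting for the type E8 -/

set_option autoImplicit false

namespace Cfsg.Agent.Lib.Steinberg.Gen.PureData.E8

open Cfsg.Lie

/-- The links. -/
def linkL : List (ℕ × ℕ × ℕ × ℕ × ℕ) :=
  [(122, 237, 121, 120, 238), (125, 236, 124, 120, 238), (129, 235, 128, 120, 238), (134, 234, 133, 120, 238), (140, 233, 139, 120, 238), (146, 232, 145, 120, 238), (151, 231, 150, 120, 238), (155, 230, 154, 120, 238), (158, 229, 157, 120, 238), (160, 228, 159, 120, 238), (168, 225, 167, 120, 238), (173, 224, 172, 120, 238), (177, 223, 176, 120, 238), (180, 222, 179, 120, 238), (182, 221, 181, 120, 238), (187, 218, 186, 120, 238), (190, 217, 189, 120, 238), (192, 216, 191, 120, 238), (196, 213, 195, 120, 238), (198, 212, 197, 120, 238), (201, 209, 200, 120, 238), (206, 203, 205, 120, 238), (208, 202, 207, 120, 238), (211, 199, 210, 120, 238), (215, 193, 214, 120, 238), (220, 183, 219, 120, 238), (227, 161, 226, 120, 238), (161, 227, 159, 122, 237), (183,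 220, 181, 122, 237), (193, 215, 191, 122, 237), (199, 211, 197, 122, 237), (202, 208, 200, 122, 237), (209, 201, 207, 122, 237), (212, 198, 210, 122, 237), (216, 192, 214, 122, 237), (221, 182, 219, 122, 237), (228, 160, 226, 122, 237), (203, 206, 200, 125, 236), (213, 196, 210, 125, 236), (217, 190, 214, 125, 236), (222, 180, 219, 125, 236), (229, 158, 226, 125, 236), (218, 187, 214, 129, 235), (223, 177, 219, 129, 235), (230, 155, 226, 129, 235), (224, 173, 219, 134, 234), (231, 151, 226, 134, 234), (232, 146, 226, 140, 233), (225, 168, 219, 146, 232), (233, 140, 226, 146, 232), (234, 134, 226, 151, 231), (235, 129, 226, 155, 230), (236, 125, 226, 158, 229), (237, 122, 226, 160, 228), (238, 120, 226, 161, 227)]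

/-- The pairs of the covering. -/
def covL : List (ℕ × ℕ) :=
  [(120, 238), (122, 237), (160, 228), (125, 236), (168, 225)]

/-- The steps of the reaching. -/
def bfsL : List (ℕ × ℕ) :=
  [(238, 7), (237, 6), (236, 5), (235, 4), (234, 3), (232, 1), (233, 2), (231, 2), (225, 0), (224, 0), (230, 3), (223, 3), (229, 4), (218, 2), (222, 4), (228, 5), (217, 4), (221, 5), (227, 6), (213, 3), (216, 5), (220, 6), (226, 7), (203, 1), (212, 5), (215, 6), (219, 7), (202, 5), (209, 4), (211, 6), (214, 7), (199, 4), (201, 6), (208, 6), (210, 7), (193, 3), (198, 6), (200, 7), (206, 5), (207, 7), (183, 2), (192, 6), (196, 5), (197, 7), (205, 7), (161, 0), (182, 6), (190, 5), (191, 7), (195, 7), (204, 6), (160, 6), (180, 5), (181, 7), (187, 4), (189, 7), (194, 6), (158, 5), (159, 7), (177, 4), (179, 7), (186, 7), (188, 6), (155, 4), (157, 7), (173, 3), (176, 7), (178, 6), (185, 6), (151, 3), (154, 7), (156, 6), (168, 1), (172, 7), (175, 6), (184, 5), (140, 1), (146, 2), (150, 7), (153, 6), (167, 7), (171, 6), (174,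 5), (134, 2), (139, 7), (145, 7), (149, 6), (152, 5), (166, 6), (170, 5), (129, 3), (133, 7), (138, 6), (144, 6), (148, 5), (165, 5), (169, 4), (125, 4), (128, 7), (132, 6), (137, 5), (143, 5), (147, 4), (164, 4), (122, 5), (124, 7), (127, 6), (131, 5), (136, 4), (142, 4), (163, 3), (120, 6), (121, 7), (123, 6), (126, 5), (130, 4), (135, 3), (141, 3), (162, 2), (119, 7), (118, 6), (116, 5), (113, 4), (109, 3), (104, 2), (98, 1), (77, 0), (117, 6), (115, 5), (112, 4), (108, 3), (97, 1), (103, 2), (76, 0), (114, 5), (111, 4), (107, 3), (96, 1), (102, 2), (92, 2), (75, 0), (110, 4), (106, 3), (95, 1), (101, 2), (91, 2), (74, 0), (70, 0), (105, 3), (94, 1), (100, 2), (90, 2), (73, 0), (69, 0), (87, 3), (93, 1), (99, 2), (89, 2), (72, 0), (68, 0), (86, 3), (65, 3), (88, 2), (71, 0), (67, 0), (85, 3), (64, 3), (83, 4), (55, 2), (66, 0), (84, 3), (63, 3), (82, 4), (54, 2), (61, 4), (62, 3), (81, 4), (53, 2), (60, 4), (80, 5), (51, 4), (52, 2), (59, 4), (79, 5), (50, 4), (58, 5), (45, 3), (49, 4), (57, 5), (78,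 6), (44, 3), (48, 5), (35, 1), (43, 3), (47, 5), (56, 6), (34, 1), (42, 5), (33, 1), (41, 5), (46, 6), (32, 5), (39, 4), (31, 5), (38, 4), (40, 6), (29, 4), (28, 4), (30, 6), (37, 6), (25, 3), (24, 3), (27, 6), (36, 5), (20, 2), (19, 2), (23, 6), (26, 5), (13, 0), (12, 0), (18, 6), (22, 5), (11, 6), (17, 5), (21, 4), (10, 5), (16, 4), (9, 4), (15, 3), (8, 3), (14, 1), (6, 1), (7, 2), (5, 2), (4, 3), (3, 4), (2, 5), (1, 6), (0, 7)]

set_option maxHeartbeats 0

theorem c1 : 240 = chevE8.nroots := by decide +kernel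
theorem c2 : shC chevE8 240 = true := by decide +kernel
theorem c3 : symC chevE8 240 = true := by decide +kernel
theorem c4 : puC 240 chevE8.chainEntry 120 238 239 (1) = true := by decide +kernel
theorem c5 : nlC 240 chevE8.chainEntry 238 239 = true := by decide +kernel
theorem c6 : lnkC 240 chevE8.chainEntry 121 120 122 237 238 239 (1) = true := by decide +kernel
theorem c7 : connChk 240 chevE8.chainEntry 239 [(120, 238)] linkL = true := by decide +kernel
theorem c8 : allChk chevE8 240 239 ((120, 238) :: linkL.map fun q => (q.1, q.2.1)) = true := by decide +kernel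
theorem c9 : covChk chevE8 240 chevE8.chainEntry 239 0 covL = true := by decide +kernel
theorem c10 : bfsChk chevE8 240 chevE8.rank (2 ^ 239) bfsL = 2 ^ 240 - 1 := by decide +kernel

theorem tbl : PureTbl chevE8 240 239 120 238 121 122 237 0 (1) (1) linkL covL bfsL :=
  ⟨c1, c2, c3, c4, c5, c6, c7, c8, c9, c10⟩

end Cfsg.Agent.Lib.Steinberg.Gen.PureData.E8
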